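import Groth.Agent.DerLimLib.Telescope
import Groth.Agent.DerCat.CompactSmall

/-!
Homotopy colimits and compact objects; cellular presentations.
-/

set_option autoImplicit false

noncomputable section

universe w v u

open CategoryTheory Limits CategoryTheory.Pretriangulated

namespace Groth.Agent.DerLimLib

open Groth.Agent.S1076 (Small smallProp small_of_isCompactObject)

variable {D : Type u} [Category.{v} D] [Preadditive D] [HasZeroObject D] [HasShift D ℤ]
    [∀ n : ℤ, (shiftFunctor D n).Additive] [Pretriangulated D]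

section

variable {K : ℕ → D} {f : ∀ n, K n ⟶ K (n + 1)} [HasCoproduct K] {L : D} {i : ∀ n, K n ⟶ L}

omit [∀ n : ℤ, (shiftFunctor D n).Additive] [Pretriangulated D] [HasZeroObject D] [HasShift D ℤ] in
/-- Transition map. -/
abbrev tr (f : ∀ n, K n ⟶ K (n + 1)) (m n : ℕ) (h : m ≤ n) : K m ⟶ K n :=
  Functor.OfSequence.map f m n h

lemma hocolim_compat (hL : DerLim.IsHocolim K f L i) (n : ℕ) : f n ≫ i (n + 1) = i n := by
  obtain ⟨c, hc⟩ := hL
  have h0 : (𝟙 (∐ K) - DerLim.shiftMap K f) ≫ Sigma.desc i = 0 := comp_distTriang_mor_zero₁₂ _ hc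
  have e := Sigma.ι K n ≫= h0
  simp only [DerLim.shiftMap, Preadditive.sub_comp, Preadditive.comp_sub, Category.id_comp,
    comp_zero, Sigma.ι_desc_assoc, Category.assoc, Sigma.ι_desc, sub_eq_zero] at e
  exact e.symm

lemma hocolim_tr (hL : DerLim.IsHocolim K f L i) {m n : ℕ} (h : m ≤ n) :
    tr f m n h ≫ i n = i m := by
  induction n, h using Nat.le_induction with
  | base => rw [tr, Functor.OfSequence.map_id, Category.id_comp]
  | succ n hmn ih =>
    rw [tr, Functor.OfSequence.map_comp f m n (n + 1) hmn (Nat.le_succ n),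
      Functor.OfSequence.map_le_succ, Category.assoc, hocolim_compat hL, ih]

end

section

variable [HasCoproducts.{v} D] {K : ℕ → D} {f : ∀ n, K n ⟶ K (n + 1)} [HasCoproduct K]
  {L : D} {i : ∀ n, K n ⟶ L}

omit [∀ n : ℤ, (shiftFunctor D n).Additive] [Pretriangulated D] [HasZeroObject D] [HasShift D ℤ] in
/-- A map from a small object into a countable coproduct lives on finitely many summands. -/
lemma exists_finset_nat {C : D} (hC : Small C) (x : C ⟶ ∐ K) :
    ∃ S : Finset ℕ, x = ∑ n ∈ S, (x ≫ projN K n) ≫ Sigma.ι K n := by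
  classical
  let K' : ULift.{v} ℕ → D := fun n => K n.down
  let a : ∐ K ⟶ ∐ K' := Sigma.desc fun n => Sigma.ι K' ⟨n⟩
  let b : ∐ K' ⟶ ∐ K := Sigma.desc fun n => Sigma.ι K n.down
  have hab : a ≫ b = 𝟙 _ := Sigma.hom_ext _ _ fun n => by simp [a, b]
  obtain ⟨S, hS⟩ := hC _ K' (x ≫ a)
  refine ⟨S.image ULift.down, ?_⟩
  have hp : ∀ k : ULift.{v} ℕ, a ≫ Groth.Agent.S1076.proj K' k = projN K k.down := fun k => by
    refine Sigma.hom_ext _ _ fun m => ?_
    simp only [a, Sigma.ι_desc_assoc]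
    by_cases h : m = k.down
    · subst h
      rw [ι_projN_self]
      exact Groth.Agent.S1076.ι_proj_self K' k
    · rw [ι_projN_ne K h, Groth.Agent.S1076.ι_proj_ne K' (fun e => h (congrArg ULift.down e))]
  calc x = (x ≫ a) ≫ b := by rw [Category.assoc, hab, Category.comp_id]
    _ = ((x ≫ a) ≫ Groth.Agent.S1076.idem K' S) ≫ b := by rw [hS]
    _ = ∑ n ∈ S.image ULift.down, (x ≫ projN K n) ≫ Sigma.ι K n := by
      rw [Finset.sum_image (fun _ _ _ _ h => ULift.down_injective h), Groth.Agent.S1076.idem,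
        Preadditive.comp_sum, Preadditive.sum_comp]
      exact Finset.sum_congr rfl fun k _ => by
        rw [Category.assoc, Category.assoc, Category.assoc, ← Category.assoc a, hp, Category.assoc]
        simp [b, K']

lemma eq_zero_of_comp_one_sub_shift {C : D} (hC : Small C) (x : C ⟶ ∐ K)
    (h : x ≫ (𝟙 (∐ K) - DerLim.shiftMap K f) = 0) : x = 0 := by
  obtain ⟨S, hS⟩ := exists_finset_nat hC x
  rw [hS]
  exact Finset.sum_eq_zero fun n _ => by rw [comp_projN_eq_zero K f x h n, zero_comp]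

/-- A map from a small object into a homotopy colimit factors through some stage. -/
lemma exists_factor {C : D} (hC : Small C) (hL : DerLim.IsHocolim K f L i) (φ : C ⟶ L) :
    ∃ (n : ℕ) (x : C ⟶ K n), x ≫ i n = φ := by
  obtain ⟨c, hc⟩ := hL
  have h0 : φ ≫ c = 0 := by
    let F := shiftFunctor D (1 : ℤ)
    let C' := C⟦(-1 : ℤ)⟧
    let e : C'⟦(1 : ℤ)⟧ ≅ C := (shiftFunctorCompIsoId D (-1 : ℤ) 1 (by lia)).app C
    have hC' : Small C' := ObjectProperty.le_shift (smallProp (D := D)) (-1 : ℤ) _ hC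
    obtain ⟨y, hy⟩ := F.map_surjective (e.hom ≫ φ ≫ c)
    have hy0 : y ≫ (𝟙 (∐ K) - DerLim.shiftMap K f) = 0 := F.map_injective (by
      rw [Functor.map_comp, hy, Functor.map_zero, Category.assoc, Category.assoc,
        show c ≫ F.map (𝟙 (∐ K) - DerLim.shiftMap K f) = 0 from comp_distTriang_mor_zero₃₁ _ hc,
        comp_zero, comp_zero])
    rw [eq_zero_of_comp_one_sub_shift hC' y hy0, Functor.map_zero] at hy
    exact (cancel_epi e.hom).1 (hy.symm.trans comp_zero.symm)
  obtain ⟨x, hx⟩ := Triangle.coyoneda_exact₃ _ hc φ h0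
  change C ⟶ ∐ K at x
  change φ = x ≫ Sigma.desc i at hx
  obtain ⟨S, hS⟩ := exists_finset_nat hC x
  refine ⟨S.sup id, ∑ n ∈ S.attach, (x ≫ projN K n.1) ≫ tr f n.1 _ (Finset.le_sup (f := id) n.2), ?_⟩
  rw [hx]
  conv_rhs => rw [hS, Preadditive.sum_comp]
  rw [Preadditive.sum_comp, ← Finset.sum_attach S (fun n => ((x ≫ projN K n) ≫ Sigma.ι K n) ≫ Sigma.desc i)]
  refine Finset.sum_congr rfl fun n _ => ?_
  simp only [Category.assoc, Sigma.ι_desc]
  rw [hocolim_tr ⟨c, hc⟩]

/-- A map from a small object to a stage which dies in the homotopy colimit dies at a later stage. -/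
lemma exists_vanish {C : D} (hC : Small C) (hL : DerLim.IsHocolim K f L i) {n : ℕ} (x : C ⟶ K n)
    (hx : x ≫ i n = 0) : ∃ (m : ℕ) (h : n ≤ m), x ≫ tr f n m h = 0 := by
  classical
  obtain ⟨c, hc⟩ := hL
  obtain ⟨y, hy⟩ := Triangle.coyoneda_exact₂ _ hc (x ≫ Sigma.ι K n)
    (show (x ≫ Sigma.ι K n) ≫ Sigma.desc i = 0 by rw [Category.assoc, Sigma.ι_desc, hx])
  change C ⟶ ∐ K at y
  change x ≫ Sigma.ι K n = y ≫ (𝟙 (∐ K) - DerLim.shiftMap K f) at hy
  obtain ⟨S, hS⟩ := exists_finset_nat hC y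
  have hS' : ∀ m, m ∉ S → y ≫ projN K m = 0 := fun m hm => by
    conv_lhs => rw [hS, Preadditive.sum_comp]
    exact Finset.sum_eq_zero fun k hk => by
      rw [Category.assoc, ι_projN_ne K (fun e : k = m => hm (e ▸ hk)), comp_zero]
  have hcomp : ∀ m, x ≫ Sigma.ι K n ≫ projN K (m + 1) =
      y ≫ projN K (m + 1) - (y ≫ projN K m) ≫ f m := fun m => by
    rw [← Category.assoc, hy, Category.assoc, one_sub_shift_projN_succ, Preadditive.comp_sub,
      Category.assoc]
  have h0 : ∀ m, m < n → y ≫ projN K m = 0 := by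
    intro m
    induction m with
    | zero =>
      intro hm
      rw [← one_sub_shift_projN_zero K f, ← Category.assoc, ← hy, Category.assoc,
        ι_projN_ne K (by omega : n ≠ 0), comp_zero]
    | succ m ih =>
      intro hm
      have e := hcomp m
      rw [ι_projN_ne K (by omega : n ≠ m + 1), comp_zero, ih (by omega), zero_comp, sub_zero] at e
      exact e.symm
  have hn : y ≫ projN K n = x := by
    cases n with
    | zero =>
      rw [← one_sub_shift_projN_zero K f, ← Category.assoc, ← hy, Category.assoc, ι_projN_self,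
        Category.comp_id]
    | succ m =>
      have e := hcomp m
      rw [ι_projN_self, Category.comp_id, h0 m (by omega), zero_comp, sub_zero] at e
      exact e.symm
  have key : ∀ m (h : n ≤ m), y ≫ projN K m = x ≫ tr f n m h := by
    intro m h
    induction m, h using Nat.le_induction with
    | base => rw [hn, tr, Functor.OfSequence.map_id, Category.comp_id]
    | succ m hm ih =>
      have e := hcomp m
      rw [ι_projN_ne K (by omega : n ≠ m + 1), comp_zero, eq_comm, sub_eq_zero] at e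
      rw [e, ih, tr, tr, Functor.OfSequence.map_comp f n m (m + 1) hm (Nat.le_succ m),
        Functor.OfSequence.map_le_succ, Category.assoc]
  refine ⟨max n (S.sup id + 1), le_max_left _ _, ?_⟩
  rw [← key _ (le_max_left _ _), hS' _ (fun hm => ?_)]
  have := Finset.le_sup (f := id) hm
  simp only [id_eq] at this
  omega

end

section

variable [HasCoproducts.{v} D] [HasColimitsOfShape (Discrete ℕ) D] {ι : Type v} (E : ι → D)

/-- Sums of shifts of the family. -/
def IsSum (K : D) : Prop :=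
  ∃ (κ : Type v) (a : κ → ι) (m : κ → ℤ), Nonempty (K ≅ ∐ (fun k => (shiftFunctor D (m k)).obj (E (a k))))

/-- One cellular step. -/
lemma exists_step {K X : D} (u : K ⟶ X) :
    ∃ (K' : D) (t : K ⟶ K') (u' : K' ⟶ X), t ≫ u' = u ∧
      (∀ (j : ι) (m : ℤ) (g : (E j)⟦m⟧ ⟶ K), g ≫ u = 0 → g ≫ t = 0) ∧
      ∃ (κ : Type v) (a : κ → ι) (m : κ → ℤ) (y : (∐ fun k => (shiftFunctor D (m k)).obj (E (a k))) ⟶ K)
        (z : K' ⟶ (shiftFunctor D (1 : ℤ)).obj (∐ fun k => (shiftFunctor D (m k)).obj (E (a k)))),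
        Triangle.mk y t z ∈ distTriang D := by
  let J := Σ (j : ι) (m : ℤ), { g : (E j)⟦m⟧ ⟶ K // g ≫ u = 0 }
  let y : (∐ fun p : J => (E p.1)⟦p.2.1⟧) ⟶ K := Sigma.desc fun p => p.2.2.1
  obtain ⟨K', t, z, hT⟩ := distinguished_cocone_triangle y
  obtain ⟨u', hu'⟩ := Triangle.yoneda_exact₂ _ hT u
    (show y ≫ u = 0 from Sigma.hom_ext _ _ fun p => by simp [y, p.2.2.2])
  refine ⟨K', t, u', hu'.symm, fun j m g hg => ?_, J, fun p => p.1, fun p => p.2.1, y, z, hT⟩
  have e : y ≫ t = 0 := comp_distTriang_mor_zero₁₂ _ hT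
  have e' := Sigma.ι (fun p : J => (E p.1)⟦p.2.1⟧) ⟨j, m, g, hg⟩ ≫= e
  simpa [y] using e'

/-- The cellular tower over `X`. -/
def tower (X : D) : ℕ → Σ K : D, (K ⟶ X)
  | 0 => ⟨∐ fun p : Σ (j : ι) (m : ℤ), ((E j)⟦m⟧ ⟶ X) => (E p.1)⟦p.2.1⟧, Sigma.desc fun p => p.2.2⟩
  | n + 1 =>
    let h := exists_step E (tower X n).2
    ⟨h.choose, h.choose_spec.choose_spec.choose⟩

/-- Transition maps of the tower. -/
def towerMap (X : D) (n : ℕ) : (tower E X n).1 ⟶ (tower E X (n + 1)).1 :=
  (exists_step E (tower E X n).2).choose_spec.choose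

theorem exists_presentation (hc : ∀ j, CohDer.IsCompactObject (E j)) (hg : CohDer.Generates E) (X : D) :
    DerLim.IsHocolim (fun n => (tower E X n).1) (towerMap E X) X (fun n => (tower E X n).2) := by
  let K := fun n => (tower E X n).1
  let f := towerMap E X
  let i := fun n => (tower E X n).2
  have hfi : ∀ n, f n ≫ i (n + 1) = i n := fun n =>
    (exists_step E (tower E X n).2).choose_spec.choose_spec.choose_spec.1
  obtain ⟨L, π, c, hT⟩ := distinguished_cocone_triangle (𝟙 (∐ K) - DerLim.shiftMap K f)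
  let iL := fun n => Sigma.ι K n ≫ π
  have hπ : π = Sigma.desc iL := Sigma.hom_ext _ _ fun n => by simp [iL]
  have hL : DerLim.IsHocolim K f L iL := ⟨c, by rw [← hπ]; exact hT⟩
  have h0 : (𝟙 (∐ K) - DerLim.shiftMap K f) ≫ Sigma.desc i = 0 := Sigma.hom_ext _ _ fun n => by
    simp [DerLim.shiftMap, Preadditive.comp_sub, Preadditive.sub_comp, hfi]
  obtain ⟨ψ, hψ⟩ := Triangle.yoneda_exact₂ _ hT (Sigma.desc i) h0
  change L ⟶ X at ψ
  change Sigma.desc i = π ≫ ψ at hψ
  have hiψ : ∀ n, iL n ≫ ψ = i n := fun n => by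
    rw [Category.assoc, ← hψ, Sigma.ι_desc]
  have : IsIso ψ := by
    refine DerCat.isIso_of_generates hg ψ fun j n => ?_
    let S' : D := (E j)⟦-n⟧
    let e : S'⟦n⟧ ≅ E j := (shiftFunctorCompIsoId D (-n) n (by lia)).app (E j)
    have hS' : Small S' := ObjectProperty.le_shift (smallProp (D := D)) (-n) _
      (small_of_isCompactObject (hc j))
    have hb : Function.Bijective (fun g : S' ⟶ L => g ≫ ψ) := by
      refine ⟨fun g g' hgg => ?_, fun φ => ?_⟩
      · simp only at hgg
        rw [← sub_eq_zero]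
        obtain ⟨m, x, hx⟩ := exists_factor hS' hL (g - g')
        have h0 : x ≫ i m = 0 := by
          rw [← hiψ, ← Category.assoc, hx, Preadditive.sub_comp, hgg, sub_self]
        have h1 : x ≫ f m = 0 :=
          (exists_step E (tower E X m).2).choose_spec.choose_spec.choose_spec.2.1 j (-n) x h0
        rw [← hx, ← hocolim_compat hL, ← Category.assoc, h1, zero_comp]
      · refine ⟨Sigma.ι (fun p : Σ (j : ι) (m : ℤ), ((E j)⟦m⟧ ⟶ X) => (E p.1)⟦p.2.1⟧) ⟨j, -n, φ⟩ ≫ iL 0, ?_⟩
        change (_ ≫ iL 0) ≫ ψ = φ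
        rw [Category.assoc, hiψ]
        exact Sigma.ι_desc (fun p : Σ (j : ι) (m : ℤ), ((E j)⟦m⟧ ⟶ X) => p.2.2) ⟨j, -n, φ⟩
    refine ⟨fun a b hab => ?_, fun y => ?_⟩
    · obtain ⟨a', ha'⟩ := (shiftFunctor D n).map_surjective (e.hom ≫ a)
      obtain ⟨b', hb'⟩ := (shiftFunctor D n).map_surjective (e.hom ≫ b)
      have hab' : a' = b' := hb.1 ((shiftFunctor D n).map_injective (by
        simp only [Functor.map_comp, ha', hb', Category.assoc]
        exact congrArg (e.hom ≫ ·) hab))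
      exact (cancel_epi e.hom).1 (by rw [← ha', ← hb', hab'])
    · obtain ⟨y', hy'⟩ := (shiftFunctor D n).map_surjective (e.hom ≫ y)
      obtain ⟨x, hx⟩ := hb.2 y'
      refine ⟨e.inv ≫ x⟦n⟧', ?_⟩
      change (e.inv ≫ x⟦n⟧') ≫ ψ⟦n⟧' = y
      simp only at hx
      rw [Category.assoc, ← Functor.map_comp, hx, hy', e.inv_hom_id_assoc]
  exact ⟨inv ψ ≫ c, isomorphic_distinguished _ hT _
    (Triangle.isoMk _ _ (Iso.refl _) (Iso.refl _) (asIso ψ).symm
      ((Category.comp_id _).trans (Category.id_comp _).symm)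
      (by
        change Sigma.desc i ≫ inv ψ = 𝟙 (∐ K) ≫ π
        rw [hψ, Category.assoc, IsIso.hom_inv_id, Category.comp_id, Category.id_comp])
      (by
        change (inv ψ ≫ c) ≫ (shiftFunctor D (1 : ℤ)).map (𝟙 (∐ K)) = inv ψ ≫ c
        rw [CategoryTheory.Functor.map_id, Category.comp_id]))⟩

end

end Groth.Agent.DerLimLib
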