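import Groth.Prelude.Def_DerLim
import Mathlib

/-!
The sequence `∐ F ⟶ ∐ F ⟶ colim F` for exact sequential colimits.
-/

set_option autoImplicit false

noncomputable section

universe v u

open CategoryTheory Limits

namespace Groth.Agent.DerLimLib

variable {A : Type u} [Category.{v} A]

attribute [local instance] IsFiltered.isConnected

section

variable [Preadditive A] (K : ℕ → A) (f : ∀ n, K n ⟶ K (n + 1)) [HasCoproduct K]

/-- Projection of a countable coproduct to a summand. -/
def projN (j : ℕ) : (∐ K) ⟶ K j :=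
  Sigma.desc fun k => if h : k = j then eqToHom (by rw [h]) else 0

@[reassoc (attr := simp)]
lemma ι_projN_self (j : ℕ) : Sigma.ι K j ≫ projN K j = 𝟙 _ := by simp [projN]

@[reassoc]
lemma ι_projN_ne {k j : ℕ} (h : k ≠ j) : Sigma.ι K k ≫ projN K j = 0 := by simp [projN, h]

lemma one_sub_shift_projN_zero : (𝟙 (∐ K) - DerLim.shiftMap K f) ≫ projN K 0 = projN K 0 := by
  refine Sigma.hom_ext _ _ fun k => ?_
  simp [DerLim.shiftMap, Preadditive.sub_comp, Preadditive.comp_sub, ι_projN_ne K (Nat.succ_ne_zero k)]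

lemma one_sub_shift_projN_succ (j : ℕ) : (𝟙 (∐ K) - DerLim.shiftMap K f) ≫ projN K (j + 1) =
    projN K (j + 1) - projN K j ≫ f j := by
  refine Sigma.hom_ext _ _ fun k => ?_
  simp only [DerLim.shiftMap, Preadditive.sub_comp, Preadditive.comp_sub, Category.id_comp,
    Sigma.ι_desc_assoc, Category.assoc]
  congr 1
  by_cases h : k = j
  · subst h; simp
  · rw [ι_projN_ne K (by omega : k + 1 ≠ j + 1), ι_projN_ne_assoc K h, comp_zero, zero_comp]

/-- Maps killed by `1 - shift` have all components zero. -/
lemma comp_projN_eq_zero {T : A} (x : T ⟶ ∐ K) (h : x ≫ (𝟙 (∐ K) - DerLim.shiftMap K f) = 0) :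
    ∀ j, x ≫ projN K j = 0
  | 0 => by rw [← one_sub_shift_projN_zero K f, ← Category.assoc, h, zero_comp]
  | j + 1 => by
    have e := congrArg (x ≫ ·) (one_sub_shift_projN_succ K f j)
    simp only [Preadditive.comp_sub] at e
    rw [← Category.assoc, h, zero_comp, ← Category.assoc x (projN K j),
      comp_projN_eq_zero x h j, zero_comp, sub_zero] at e
    exact e.symm

end

section

variable [Abelian A] [HasColimitsOfShape ℕ A] [HasExactColimitsOfShape ℕ A]
  (K : ℕ → A) (f : ∀ n, K n ⟶ K (n + 1)) [HasCoproduct K]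

/-- Partial sums. -/
abbrev part (N : ℕ) : A := ∐ fun i : Fin (N + 1) => K i

/-- Transition maps of the partial sums. -/
def partMap (N : ℕ) : part K N ⟶ part K (N + 1) :=
  Sigma.desc fun i => Sigma.ι (fun i : Fin (N + 1 + 1) => K i) i.castSucc

lemma ι_partMap (N : ℕ) (i : Fin (N + 1)) {W : A} (g : part K (N + 1) ⟶ W) :
    Sigma.ι (fun i : Fin (N + 1) => K i) i ≫ partMap K N ≫ g =
      Sigma.ι (fun i : Fin (N + 1 + 1) => K i) i.castSucc ≫ g :=
  Sigma.ι_desc_assoc (fun i : Fin (N + 1) => Sigma.ι (fun i : Fin (N + 1 + 1) => K i) i.castSucc) i g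

/-- Inclusion of a partial sum. -/
def partι (N : ℕ) : part K N ⟶ ∐ K := Sigma.desc fun i => Sigma.ι K i

lemma partMap_ι (N : ℕ) : partMap K N ≫ partι K (N + 1) = partι K N :=
  Sigma.hom_ext _ _ fun i => by simp [partMap, partι]

/-- Cocone of partial sums. -/
def partCocone : Cocone (Functor.ofSequence (partMap K)) where
  pt := ∐ K
  ι := NatTrans.ofSequence (partι K) (fun N => by
    rw [Functor.ofSequence_map_homOfLE_succ]
    exact (partMap_ι K N).trans (Category.comp_id _).symm)

/-- The coproduct is the colimit of its partial sums. -/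
def partIsColimit : IsColimit (partCocone K) where
  desc s := Sigma.desc fun n => Sigma.ι (fun i : Fin (n + 1) => K i) (Fin.last n) ≫ s.ι.app n
  fac s N := by
    refine Sigma.hom_ext _ _ fun i => ?_
    change Sigma.ι (fun i : Fin (N + 1) => K i) i ≫ partι K N ≫ _ = _
    simp only [partι, Sigma.ι_desc_assoc, Sigma.ι_desc]
    have key : ∀ (M : ℕ) (hM : (i : ℕ) ≤ M),
        Sigma.ι (fun j : Fin (M + 1) => K j) ⟨i, by omega⟩ ≫ s.ι.app M =
        Sigma.ι (fun j : Fin ((i : ℕ) + 1) => K j) (Fin.last i) ≫ s.ι.app (i : ℕ) := by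
      intro M hM
      induction M, hM using Nat.le_induction with
      | base => rfl
      | succ M hM ih =>
        rw [← ih, ← s.w (homOfLE (Nat.le_succ M)), Functor.ofSequence_map_homOfLE_succ]
        exact (ι_partMap K M ⟨(i : ℕ), by omega⟩ _).symm
    exact (key N (by omega)).symm
  uniq s m hm := Sigma.hom_ext _ _ fun n => by
    rw [Sigma.ι_desc, ← hm n]
    change _ = Sigma.ι (fun i : Fin (n + 1) => K i) (Fin.last n) ≫ partι K n ≫ m
    simp [partι]

lemma mono_one_sub_shift : Mono (𝟙 (∐ K) - DerLim.shiftMap K f) := by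
  refine Preadditive.mono_of_cancel_zero _ fun {T} x hx => ?_
  have hp := comp_projN_eq_zero K f x hx
  let q := cokernel.π x
  have hq : ∀ N, Mono (partι K N ≫ q) := fun N => by
    refine Preadditive.mono_of_cancel_zero _ fun {U} t ht => ?_
    rw [← Category.assoc] at ht
    -- `t ≫ partι` lies in the image of `x`, which has no components
    obtain ⟨U', π, hπ, y, hy⟩ :=
      (ShortComplex.mk x q (cokernel.condition x)).exact_iff_exact_up_to_refinements.1
        (ShortComplex.exact_of_g_is_cokernel _ (cokernelIsCokernel x)) _ ht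
    change π ≫ t ≫ partι K N = y ≫ x at hy
    let r : (∐ K) ⟶ part K N := ∑ i : Fin (N + 1), projN K i ≫ Sigma.ι (fun i : Fin (N + 1) => K i) i
    have hr : partι K N ≫ r = 𝟙 _ := Sigma.hom_ext _ _ fun i => by
      rw [partι, Sigma.ι_desc_assoc, Category.comp_id, Preadditive.comp_sum, Finset.sum_eq_single i]
      · rw [ι_projN_self_assoc]
      · intro b _ hb
        rw [ι_projN_ne_assoc K (fun h => hb (Fin.ext h.symm)), zero_comp]
      · simp
    have hxr : x ≫ r = 0 := by
      rw [Preadditive.comp_sum]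
      exact Finset.sum_eq_zero fun i _ => by rw [← Category.assoc, hp, zero_comp]
    have h0 : π ≫ t = 0 := by
      have e := congrArg (· ≫ r) hy
      simp only [Category.assoc, hr, hxr, comp_zero, Category.comp_id] at e
      exact e
    exact (cancel_epi π).1 (by rw [h0, comp_zero])
  let φ : Functor.ofSequence (partMap K) ⟶ (Functor.const ℕ).obj (cokernel x) :=
    NatTrans.ofSequence (fun N => partι K N ≫ q) (fun N => by
      rw [Functor.ofSequence_map_homOfLE_succ]
      exact ((Category.assoc _ _ _).symm.trans (congrArg (· ≫ q) (partMap_ι K N))).trans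
        (Category.comp_id _).symm)
  haveI : ∀ N, Mono (φ.app N) := hq
  haveI := NatTrans.mono_of_mono_app φ
  haveI : Mono q := colim.map_mono' φ (partIsColimit K) (isColimitConstCocone ℕ (cokernel x)) q
    (fun N => (Category.comp_id (partι K N ≫ q)).symm)
  exact (cancel_mono q).1 (by rw [cokernel.condition, zero_comp])

end

section

variable [Preadditive A] (F : ℕ ⥤ A) [HasColimit F] [HasCoproduct F.obj]

/-- `1 - shift` composed with the map to the colimit vanishes. -/
lemma one_sub_shift_desc :
    (𝟙 (∐ F.obj) - DerLim.shiftMap F.obj (fun n => F.map (homOfLE (Nat.le_succ n)))) ≫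
      Sigma.desc (fun n => colimit.ι F n) = 0 :=
  Sigma.hom_ext _ _ fun n => by
    simp [DerLim.shiftMap, Preadditive.comp_sub, Preadditive.sub_comp]

/-- The colimit is the cokernel of `1 - shift`. -/
def colimitIsCokernel : IsColimit (CokernelCofork.ofπ _ (one_sub_shift_desc F)) := by
  have hs : ∀ {W : A} (k : (∐ F.obj) ⟶ W), (𝟙 (∐ F.obj) - DerLim.shiftMap F.obj
      (fun n => F.map (homOfLE (Nat.le_succ n)))) ≫ k = 0 → ∀ n,
      F.map (homOfLE (Nat.le_succ n)) ≫ Sigma.ι F.obj (n + 1) ≫ k = Sigma.ι F.obj n ≫ k := by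
    intro W k hk n
    have e := Sigma.ι F.obj n ≫= hk
    simp only [DerLim.shiftMap, Preadditive.sub_comp, Preadditive.comp_sub, Category.id_comp,
      comp_zero, Sigma.ι_desc_assoc, Category.assoc, sub_eq_zero] at e
    exact e.symm
  refine CokernelCofork.IsColimit.ofπ _ _
    (fun {W} k hk => colimit.desc F ⟨W, NatTrans.ofSequence (fun n => Sigma.ι F.obj n ≫ k)
      (fun n => by simpa using hs k hk n)⟩)
    (fun {W} k hk => Sigma.hom_ext _ _ fun n => by simp)
    (fun {W} k hk m hm => colimit.hom_ext fun n => by simp [← hm])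

end

section

variable [Abelian A] [HasColimitsOfShape ℕ A] [HasExactColimitsOfShape ℕ A]
  (F : ℕ ⥤ A) [HasCoproduct F.obj]

lemma shortExact_one_sub_shift : (ShortComplex.mk _ _ (one_sub_shift_desc F)).ShortExact where
  exact := ShortComplex.exact_of_g_is_cokernel _ (colimitIsCokernel F)
  mono_f := mono_one_sub_shift _ _
  epi_g := Cofork.IsColimit.epi (colimitIsCokernel F)

end

end Groth.Agent.DerLimLib
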